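import Cfsg.Agent.Blocks.KleinFour.Pairs
import Cfsg.Agent.Blocks.KleinFour.Count
import Cfsg.Agent.Blocks.CyclicInertia
import Cfsg.Agent.S4733

/-!
# Blocks with one character more than modular characters

Such a block has one subsection at a nontrivial element, of rank one: the nontrivial elements of a
defect group are conjugate, and a block of their centralizers inducing the block has rank one.
-/

set_option autoImplicit false
set_option linter.style.haveILetI false
open Cfsg CfsgLib CfsgLib.Blocks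
open scoped MonoidAlgebra

namespace CfsgLib.Blocks.OneLess

universe u

variable {G : Type u} [Group G] [Finite G] {p : ℕ} [Fact p.Prime] {M : Ideal AlgInt}
  {B : Set (IrrCharacter G)}

/-- Representatives of the classes of `p`-elements through a given one. -/
theorem exists_reps_through {u : G} (hu : ∃ k : ℕ, orderOf u = p ^ k) (hu1 : u ≠ 1) :
    ∃ X : Finset G, (∀ x ∈ X, ∃ k : ℕ, orderOf x = p ^ k) ∧
      (∀ v : G, (∃ k : ℕ, orderOf v = p ^ k) → ∃! x, x ∈ X ∧ IsConj v x) ∧ u ∈ X ∧ (1 : G) ∈ X := by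
  classical
  obtain ⟨X, hX, hXrep, hcent⟩ := KleinFour.exists_reps (G := G) p
  refine ⟨insert u (X.filter fun x => ¬ IsConj u x), fun x hx => ?_, fun v hv => ?_,
    Finset.mem_insert_self _ _, Finset.mem_insert_of_mem (Finset.mem_filter.2
      ⟨hcent 1 (Subgroup.one_mem _) ⟨0, by simp⟩, fun h => hu1 (isConj_one_left.1 h)⟩)⟩
  · rcases Finset.mem_insert.1 hx with rfl | hx
    · exact hu
    · exact hX x (Finset.mem_filter.1 hx).1
  · obtain ⟨x, ⟨hxX, hvx⟩, huniq⟩ := hXrep v hv
    by_cases hvu : IsConj v u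
    · refine ⟨u, ⟨Finset.mem_insert_self _ _, hvu⟩, fun y hy => ?_⟩
      rcases Finset.mem_insert.1 hy.1 with rfl | h
      · rfl
      · exact absurd (hvu.symm.trans hy.2) (Finset.mem_filter.1 h).2
    · refine ⟨x, ⟨Finset.mem_insert_of_mem (Finset.mem_filter.2
        ⟨hxX, fun h => hvu (hvx.trans h.symm)⟩), hvx⟩, fun y hy => ?_⟩
      rcases Finset.mem_insert.1 hy.1 with rfl | h
      · exact absurd hy.2 hvu
      · exact huniq y ⟨(Finset.mem_filter.1 h).1, hy.2⟩

variable [M.IsMaximal] [CharP (kres M) p]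

/-- Every element of a defect group carries a subsection. -/
theorem exists_subsection (hM : IsPModular p M) (hB : IsPBlock M B) {D : Subgroup G}
    (hD : IsDefectGroup p M B D) {x w : G} (hx : x ∈ D) (hxw : IsConj x w) :
    ∃ c, IsInducedBlock M (Subgroup.centralizer ({w} : Set G)) c B := by
  obtain ⟨a, rfl⟩ := isConj_iff.1 hxw
  obtain ⟨k, hk⟩ := IsPGroup.iff_orderOf.1
    (IsPGroup.of_card (Contrib.natCard_defectGroup hM hB hD)) ⟨x, hx⟩
  rw [Subgroup.orderOf_mk] at hk
  have hord : ∃ e : ℕ, orderOf (a * x * a⁻¹) = p ^ e := ⟨k, by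
    rw [← hk]; exact MulEquiv.orderOf_eq (MulAut.conj a) x⟩
  obtain ⟨g, hmax⟩ := KleinFour.exists_maxPair (M := M) hB hD
  have he := isBlockIdem_topEl (M := M) hB
  obtain ⟨f, hf, -⟩ := hmax.1.1.existsUnique_le (Subgroup.zpowers_le.2 hx)
  have h := ((hf.pairOf_iff he hmax.1.1).2 hmax.1).conjA he.1 (Subgroup.mem_top a)
  rw [KleinFour.zpowers_map_conj] at h
  obtain ⟨c, hc, -⟩ := KleinFour.exists_block_of_isPairOf hM hB hord h
  exact ⟨c, hc⟩

/-- The consequences of `k(B) = l(B) + 1`. -/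
theorem one_class (hM : IsPModular p M) (hB : IsPBlock M B) {D : Subgroup G}
    (hD : IsDefectGroup p M B D) (hk : Nat.card B = blockRank p B + 1) {u : G} (huD : u ∈ D)
    (hu1 : u ≠ 1) :
    (∀ v ∈ D, v ≠ 1 → IsConj u v) ∧
      ∀ b, IsInducedBlock M (Subgroup.centralizer ({u} : Set G)) b B → blockRank p b = 1 := by
  classical
  haveI := Fintype.ofFinite G
  have hDp : IsPGroup p D := IsPGroup.of_card (Contrib.natCard_defectGroup hM hB hD)
  have hord : ∀ v ∈ D, ∃ k : ℕ, orderOf v = p ^ k := fun v hv => by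
    obtain ⟨k, hk⟩ := IsPGroup.iff_orderOf.1 hDp ⟨v, hv⟩
    exact ⟨k, by rwa [Subgroup.orderOf_mk] at hk⟩
  obtain ⟨X, hX, hXrep, huX, h1X⟩ := exists_reps_through (hord u huD) hu1
  set L : G → ℕ := fun x => ∑ᶠ b ∈ {b : Set (IrrCharacter (Subgroup.centralizer ({x} : Set G))) |
    IsInducedBlock M (Subgroup.centralizer ({x} : Set G)) b B}, blockRank p b with hL
  have hsum : Nat.card B = ∑ x ∈ X, L x := natCard_block_eq_sum_blockRank hM hB X hX hXrep
  have hone : L 1 = blockRank p B :=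
    KleinFour.sum_rank_central hM hB ⟨0, by simp⟩ (Subgroup.one_mem _)
  rw [← Finset.add_sum_erase X L h1X, hone, hk, Nat.add_left_cancel_iff] at hsum
  have hpos : ∀ v ∈ D, ∀ x ∈ X, IsConj v x → 1 ≤ L x := by
    intro v hv x hx hvx
    obtain ⟨c, hc⟩ := exists_subsection hM hB hD hv hvx
    haveI := Fintype.ofFinite (IrrCharacter (Subgroup.centralizer ({x} : Set G)))
    simp only [hL]
    rw [finsum_mem_eq_finite_toFinset_sum _ (Set.toFinite _)]
    exact (CyclicInertia.blockRank_pos hM hc.1).trans_le (Finset.single_le_sum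
      (f := fun b => blockRank p b) (fun b _ => Nat.zero_le _) ((Set.Finite.mem_toFinset _).2 hc))
  have huE : u ∈ X.erase 1 := Finset.mem_erase.2 ⟨hu1, huX⟩
  rw [← Finset.add_sum_erase (X.erase 1) L huE] at hsum
  have hLu := hpos u huD u huX (IsConj.refl u)
  refine ⟨fun v hv hv1 => ?_, fun b hb => le_antisymm ?_ (CyclicInertia.blockRank_pos hM hb.1)⟩
  · obtain ⟨x, ⟨hxX, hvx⟩, -⟩ := hXrep v (hord v hv)
    have hx1 : x ≠ 1 := fun h => hv1 (isConj_one_right.1 (h ▸ hvx.symm))
    by_contra hne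
    have hxu : x ≠ u := fun h => hne (h ▸ hvx.symm)
    have h1 := Finset.single_le_sum (f := L) (s := (X.erase 1).erase u) (fun _ _ => Nat.zero_le _)
      (Finset.mem_erase.2 ⟨hxu, Finset.mem_erase.2 ⟨hx1, hxX⟩⟩)
    have h2 := hpos v hv x hxX hvx
    omega
  · haveI := Fintype.ofFinite (IrrCharacter (Subgroup.centralizer ({u} : Set G)))
    refine le_trans ?_ (show L u ≤ 1 by omega)
    simp only [hL]
    rw [finsum_mem_eq_finite_toFinset_sum _ (Set.toFinite _)]
    exact Finset.single_le_sum (f := fun b => blockRank p b) (fun b _ => Nat.zero_le _)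
      ((Set.Finite.mem_toFinset _).2 hb)

/-- All nontrivial elements of the defect group have order `p`. -/
theorem pow_eq_one (hM : IsPModular p M) (hB : IsPBlock M B) {D : Subgroup G}
    (hD : IsDefectGroup p M B D) (hk : Nat.card B = blockRank p B + 1) {v : G} (hv : v ∈ D) :
    v ^ p = 1 := by
  by_cases hv1 : v = 1
  · rw [hv1, one_pow]
  have hDp : IsPGroup p D := IsPGroup.of_card (Contrib.natCard_defectGroup hM hB hD)
  obtain ⟨k, hk'⟩ := IsPGroup.iff_orderOf.1 hDp ⟨v, hv⟩
  have hk0 : k ≠ 0 := fun h => hv1 (congrArg Subtype.val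
    (orderOf_eq_one_iff.1 (by rw [hk', h, pow_zero]) : (⟨v, hv⟩ : D) = 1))
  have hord : orderOf (⟨v, hv⟩ : D) ≠ 1 := by
    rw [hk']; exact (Nat.one_lt_pow hk0 (Fact.out : p.Prime).one_lt).ne'
  obtain ⟨u, hu⟩ := exists_prime_orderOf_dvd_card' (G := D) p (by
    refine dvd_trans ?_ (orderOf_dvd_natCard (⟨v, hv⟩ : D))
    rw [hk']; exact dvd_pow_self p hk0)
  have hu1 : (u : G) ≠ 1 := fun h => (Fact.out : p.Prime).one_lt.ne' (by
    rw [← hu, ← Subgroup.orderOf_coe, h, orderOf_one])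
  obtain ⟨a, ha⟩ := isConj_iff.1 ((one_class hM hB hD hk u.2 hu1).1 v hv hv1)
  have hup : (u : G) ^ p = 1 := by
    rw [← Subgroup.coe_pow, ← hu, pow_orderOf_eq_one, Subgroup.coe_one]
  rw [← ha, conj_pow, hup, mul_one, mul_inv_cancel]

end CfsgLib.Blocks.OneLess
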